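import Cfsg.Agent.Lib.Goldschmidt.Small.Type

/-!
# An almost simple group with a strongly closed four-group
-/

set_option autoImplicit false
set_option linter.style.haveILetI false
set_option linter.unusedSectionVars false

namespace Cfsg.Agent.Goldschmidt

open Subgroup Cfsg.Agent

universe u

/-- What the four-group gives. -/
structure AlmostConcl {X : Type u} [Group X] (K : Subgroup X) (P : Subgroup X) (B : Subgroup X) : Prop where
  inner : ∀ x ∈ P, (∀ u ∈ P, u ∈ K → u⁻¹ * (x * u * x⁻¹) ∈ B) → x ∈ K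
  alt : (∀ x ∈ P, x ∈ K → x ∈ B) ∨ (UFour.U4 ↥(P ⊓ K : Subgroup X) ∧ HasSE K)
  invol : ∀ x ∈ P, x ∈ K → x * x = 1 → x ∈ B

theorem almostConcl {X : Type u} [Group X] [Finite X] (K : Subgroup X) [K.Normal] [IsSimpleGroup K]
    (hna : ¬ IsMulCommutative K) (hC : centralizer (K : Set X) = ⊥) (hT : GType K) (P : Sylow 2 X) {B : Subgroup X}
    (hBK : B ≤ K) (hB4 : Nat.card B = 4) (hBsq : ∀ e ∈ B, e * e = 1)
    (hsc : Cfsg.IsStronglyClosed B (P : Subgroup X)) (hcen : ∀ e ∈ B, ∀ x ∈ (P : Subgroup X), x * e = e * x) :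
    AlmostConcl K (P : Subgroup X) B := by
  classical
  haveI : Fact (Nat.Prime 2) := ⟨Nat.prime_two⟩
  obtain ⟨PK, hPK⟩ := ((Fusion.sylIn_top P).inf_normal le_top
    (by rw [normalizer_eq_top])).exists_sylow_subgroupOf (H := K)
  have hmP : ∀ k : K, k ∈ (PK : Subgroup K) ↔ (k : X) ∈ (P : Subgroup X) := fun k => by
    rw [hPK, mem_subgroupOf]; exact ⟨fun h => h.1, fun h => ⟨h, k.2⟩⟩
  obtain ⟨W, hW⟩ := exists_typeData hna hT PK
  set BK := B.subgroupOf K with hBKdef
  have hBW : BK = W := by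
    have hle : BK ≤ W := fun w hw => hW.invol w ((hmP w).2 (hsc.1 hw)) (Subtype.ext (hBsq _ hw))
    refine le_antisymm hle fun w hw => ?_
    by_cases hw1 : w = 1
    · rw [hw1]; exact one_mem _
    obtain ⟨v, hv, hv1⟩ : ∃ v ∈ BK, v ≠ 1 := by
      by_contra hc
      push Not at hc
      have h1 : BK = ⊥ := (Subgroup.eq_bot_iff_forall _).2 hc
      have h2 := Nat.card_congr (subgroupOfEquivOfLe hBK).toEquiv
      rw [← hBKdef, h1, Subgroup.card_bot, hB4] at h2
      omega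
    obtain ⟨h₁, -, -, h₁t⟩ := hW.cyc.turn
    obtain ⟨i, hi⟩ := h₁t v (hle hv) hv1 w hw hw1
    have hwP := (hmP w).1 (hW.le hw)
    rw [← hi] at hwP ⊢
    exact hsc.2 v hv _ (by push_cast at hwP; exact hwP)
  subst hBW
  refine ⟨fun x hx hu => ?_, ?_, fun x hx hxK h2 => hW.invol ⟨x, hxK⟩ ((hmP _).2 hx) (Subtype.ext h2)⟩
  · set α : MulAut K := MulAut.conjNormal x with hα
    have hαv : ∀ k : K, (α k : X) = x * k * x⁻¹ := fun k => MulAut.conjNormal_apply x k
    obtain ⟨g, hg⟩ := hW.inner α (by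
        obtain ⟨j, hj⟩ := P.isPGroup' ⟨x, hx⟩
        obtain ⟨i, -, hi⟩ := (Nat.dvd_prime_pow Nat.prime_two).1 (orderOf_dvd_of_pow_eq_one (n := 2 ^ j) (x := α)
          (by rw [hα, ← map_pow, show x ^ 2 ^ j = 1 from congrArg Subtype.val hj, map_one]))
        exact ⟨i, hi⟩)
      (fun k hk => by
        rw [hmP, hαv]
        exact mul_mem (mul_mem hx ((hmP k).1 hk)) (inv_mem hx))
      (fun w hw => Subtype.ext (by rw [hαv, hcen w hw x hx, mul_inv_cancel_right]))
      (fun k hk => by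
        show ((k⁻¹ * α k : K) : X) ∈ B
        push_cast
        rw [hαv]
        exact hu k ((hmP k).1 hk) k.2)
    have h1 : (g : X)⁻¹ * x ∈ centralizer (K : Set X) := mem_centralizer_iff.2 fun k hk => by
      have h2 := congrArg Subtype.val (hg ⟨k, hk⟩)
      rw [hαv] at h2
      push_cast at h2
      calc k * ((g : X)⁻¹ * x) = (g : X)⁻¹ * ((g : X) * k * (g : X)⁻¹) * x := by group
        _ = _ := by rw [← h2]; group
    rw [hC, mem_bot, inv_mul_eq_one] at h1
    exact h1 ▸ g.2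
  · have hW4 : Nat.card BK = 4 := (Nat.card_congr (subgroupOfEquivOfLe hBK).toEquiv).trans hB4
    rcases four_or_u4 hna hT PK hW4 hW.le (fun x hx h2 => hW.invol x hx h2) with he | ⟨hu, hse⟩
    · exact Or.inl fun x hx hxK => (he.symm.le ((hmP ⟨x, hxK⟩).2 hx) :)
    · refine Or.inr ⟨hu.of_equiv ?_, hse⟩
      refine (MulEquiv.subgroupCongr hPK).trans ?_
      exact subgroupOfEquivOfLe inf_le_right

end Cfsg.Agent.Goldschmidt
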