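import Cfsg.Agent.Lib.Goldschmidt.Sys.Final
import Cfsg.Agent.Lib.Goldschmidt.Sys.Transport

/-!
# The exceptional pair: the component at an involution of `A`

Each centraliser has exactly one moved component; `up` carries subgroups of a centraliser modulo its core back to the
group.
-/

set_option autoImplicit false
set_option linter.style.haveILetI false
set_option linter.unusedSectionVars false

namespace Cfsg.Agent.Goldschmidt

open Subgroup Cfsg.Agent Cfsg.Agent.Fusion
open Cfsg.Agent.Local.SCA (comm_of_mem)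

universe u

variable {G : Type u} [Group G] [Finite G] {A : Subgroup G}

/-- The preimage in the centraliser. -/
def up (a : G) (U : Subgroup (Cq a)) : Subgroup G :=
  (U.comap (qq a)).map (centralizer ({a} : Set G)).subtype

theorem mem_up {a : G} {U : Subgroup (Cq a)} {x : G} :
    x ∈ up a U ↔ ∃ hx : x ∈ centralizer ({a} : Set G), qq a ⟨x, hx⟩ ∈ U :=
  ⟨fun ⟨y, hy, e⟩ => e ▸ ⟨y.2, hy⟩, fun ⟨hx, h⟩ => ⟨⟨x, hx⟩, h, rfl⟩⟩

theorem up_le (a : G) (U : Subgroup (Cq a)) : up a U ≤ centralizer ({a} : Set G) := map_subtype_le _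

theorem up_mono {a : G} {U V : Subgroup (Cq a)} (h : U ≤ V) : up a U ≤ up a V := map_mono (comap_mono h)

theorem up_norm (a : G) (U : Subgroup (Cq a)) [hU : U.Normal] :
    centralizer ({a} : Set G) ≤ normalizer (up a U : Set G) := fun g hg => mem_normalizer_fintype (by
  intro x hx
  obtain ⟨hxC, hxU⟩ := mem_up.1 hx
  refine mem_up.2 ⟨mul_mem (mul_mem hg hxC) (inv_mem hg), ?_⟩
  exact hU.conj_mem _ hxU (qq a ⟨g, hg⟩))

theorem map_up_conj {a : G} (g : G) (U : Subgroup (Cq a)) :
    (up a U).map (MulAut.conj g).toMonoidHom = up (g * a * g⁻¹) (U.map (cqEquiv g a).toMonoidHom) := by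
  ext y
  constructor
  · rintro ⟨x, hx, rfl⟩
    obtain ⟨hxC, hxU⟩ := mem_up.1 hx
    exact mem_up.2 ⟨(centEquiv g a ⟨x, hxC⟩).2, qq a ⟨x, hxC⟩, hxU, rfl⟩
  · intro hy
    obtain ⟨hyC, u, hu, e⟩ := mem_up.1 hy
    refine ⟨g⁻¹ * y * g, mem_up.2 ⟨((centEquiv g a).symm ⟨y, hyC⟩).2, ?_⟩, by simp [mul_assoc]⟩
    show qq a ((centEquiv g a).symm ⟨y, hyC⟩) ∈ U
    rwa [show qq a ((centEquiv g a).symm ⟨y, hyC⟩) = u from (cqEquiv g a).injective (by
      rw [cqEquiv_qq, MulEquiv.apply_symm_apply]; exact e.symm)]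

/-- The preimage of the moved component. -/
abbrev jt (A : Subgroup G) (a : G) : Subgroup G := up a (movedLayer (img a A))

/-- The preimage of the centraliser of the moved component. -/
abbrev dd (A : Subgroup G) (a : G) : Subgroup G := up a (centralizer (movedLayer (img a A) : Set (Cq a)))

/-- The preimage of the inner part. -/
abbrev nn (A : Subgroup G) (a : G) : Subgroup G :=
  up a (movedLayer (img a A) ⊔ centralizer (movedLayer (img a A) : Set (Cq a)))

/-- The moved component with four and two. -/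
structure Only (A : Subgroup G) (a : G) (J : Subgroup (Cq a)) : Prop where
  moved : Moved (img a A) J
  unique : ∀ J', Moved (img a A) J' → J' = J
  four : Nat.card (pull a A (tPart (img a A) J)) = 4
  two : ∀ x, x ∈ pull a A (rPart (img a A) J) ↔ x = 1 ∨ x = a

/-- In the exceptional case each centraliser has one moved component. -/
theorem exists_only (h : Hyp G A) (hs : SmallCase A) {a : G} (c : At A a) : ∃ J, Only A a J := by
  classical
  haveI : Fact (Nat.Prime 2) := ⟨Nat.prime_two⟩
  have P := sysStatement G A h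
  obtain ⟨-, -, ⟨-, -, J, hJ, -, -⟩, -, -⟩ := hs.pairs a c.mem c.ne
  have key : ∀ J', Moved (img a A) J' → Nat.card (pull a A (tPart (img a A) J')) = 4 ∧
      ∀ x, x ∈ pull a A (rPart (img a A) J') ↔ x = 1 ∨ x = a := by
    intro J' hJ'
    have hM : Mem A a (pull a A (tPart (img a A) J')) (pull a A (rPart (img a A) J')) :=
      ⟨c.mem, c.ne, J', hJ', rfl, rfl⟩
    obtain ⟨hTA, hRA, hd, -, h4⟩ := P.le hM
    have haR := P.mem hM
    set T := pull a A (tPart (img a A) J')
    set R := pull a A (rPart (img a A) J')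
    have hle : Nat.card T * Nat.card R ≤ 8 := by
      rw [← hs.eight, ← Nat.card_prod]
      refine Nat.card_le_card_of_injective (fun p : T × R => (⟨p.1 * p.2, mul_mem (hTA p.1.2) (hRA p.2.2)⟩ : A))
        fun p q e => ?_
      have e' : (p.1 : G) * p.2 = q.1 * q.2 := congrArg Subtype.val e
      have h1 : (q.1 : G)⁻¹ * p.1 = q.2 * (p.2 : G)⁻¹ := by
        calc (q.1 : G)⁻¹ * p.1 = (q.1 : G)⁻¹ * (p.1 * p.2) * (p.2 : G)⁻¹ := by group
          _ = _ := by rw [e']; group
      have h2 : (q.1 : G)⁻¹ * p.1 ∈ T ⊓ R :=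
        Subgroup.mem_inf.2 ⟨mul_mem (inv_mem q.1.2) p.1.2, h1 ▸ mul_mem q.2.2 (inv_mem p.2.2)⟩
      rw [hd, mem_bot] at h2
      rw [h2] at h1
      exact Prod.ext (Subtype.ext (inv_mul_eq_one.1 h2).symm) (Subtype.ext (mul_inv_eq_one.1 h1.symm).symm)
    have hR2 : 2 ≤ Nat.card R := by
      haveI : Nontrivial R := ⟨⟨⟨a, haR⟩, 1, fun e => c.ne (congrArg Subtype.val e)⟩⟩
      exact Finite.one_lt_card
    have hR2' : Nat.card R = 2 := by nlinarith
    refine ⟨by nlinarith, fun x => ⟨fun hx => ?_, ?_⟩⟩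
    · by_contra hx'
      rw [not_or] at hx'
      exact hx'.2 (congrArg Subtype.val (((Nat.card_eq_two_iff' (1 : R)).1 hR2').unique (y₁ := ⟨x, hx⟩) (y₂ := ⟨a, haR⟩)
        (fun e => hx'.1 (congrArg Subtype.val e)) fun e => c.ne (congrArg Subtype.val e)))
    · rintro (rfl | rfl)
      · exact one_mem _
      · exact haR
  refine ⟨J, hJ, fun J' hJ' => by_contra fun hne => ?_, (key J hJ).1, (key J hJ).2⟩
  obtain ⟨h4, -⟩ := key J' hJ'
  have hle : pull a A (tPart (img a A) J') ≤ pull a A (rPart (img a A) J) :=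
    pull_mono ((c.pairData localStatement hJ').le.trans (hJ.inf_le_rPart hJ' (Ne.symm hne)))
  have h5 : Nat.card (pull a A (rPart (img a A) J)) ≤ 2 := by
    refine le_trans (Nat.card_le_card_of_surjective
      (fun b : Fin 2 => (⟨![1, a] b, by
        refine ((key J hJ).2 _).2 ?_
        fin_cases b <;> simp⟩ : pull a A (rPart (img a A) J))) fun x => ?_) (Nat.card_fin 2).le
    rcases ((key J hJ).2 x).1 x.2 with e | e
    · exact ⟨0, Subtype.ext e.symm⟩
    · exact ⟨1, Subtype.ext e.symm⟩
  have := (Nat.card_le_card_of_injective _ (Subgroup.inclusion_injective hle)).trans h5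
  omega

namespace Only

variable {a : G} {J : Subgroup (Cq a)} (o : Only A a J)
include o

theorem layer : movedLayer (img a A) = J :=
  le_antisymm (sSup_le fun _ h => (o.unique _ h).le) (le_sSup o.moved)

theorem normal (c : At A a) : J.Normal := o.layer ▸ (c.concl localStatement).movedLayer_normal

theorem conj {g : G} (h : Hyp G A) (hs : SmallCase A) (c : At A a) (hg : g ∈ normalizer (A : Set G)) :
    movedLayer (img (g * a * g⁻¹) A) = J.map (cqEquiv g a).toMonoidHom := by
  obtain ⟨J', o'⟩ := exists_only h hs (c.conj hg)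
  have hm := o.moved.map (cqEquiv g a)
  rw [map_img c hg] at hm
  rw [o'.layer, o'.unique _ hm]

end Only

theorem jt_conj (h : Hyp G A) (hs : SmallCase A) {a g : G} (c : At A a) (hg : g ∈ normalizer (A : Set G)) :
    cj (jt A a) g = jt A (g * a * g⁻¹) := by
  obtain ⟨J, o⟩ := exists_only h hs c
  rw [jt, jt, o.layer, o.conj h hs c hg]
  exact map_up_conj g J

theorem dd_conj (h : Hyp G A) (hs : SmallCase A) {a g : G} (c : At A a) (hg : g ∈ normalizer (A : Set G)) :
    cj (dd A a) g = dd A (g * a * g⁻¹) := by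
  obtain ⟨J, o⟩ := exists_only h hs c
  rw [dd, dd, o.layer, o.conj h hs c hg, ← map_centralizer_equiv]
  exact map_up_conj g _

theorem nn_conj (h : Hyp G A) (hs : SmallCase A) {a g : G} (c : At A a) (hg : g ∈ normalizer (A : Set G)) :
    cj (nn A a) g = nn A (g * a * g⁻¹) := by
  obtain ⟨J, o⟩ := exists_only h hs c
  rw [nn, nn, o.layer, o.conj h hs c hg, ← map_centralizer_equiv, ← Subgroup.map_sup]
  exact map_up_conj g _

end Cfsg.Agent.Goldschmidt
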