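import Cfsg.Agent.Lib.Goldschmidt.Small.Comp
import Cfsg.Agent.Lib.Goldschmidt.Small.Almost
import Cfsg.Agent.Lib.Local.SCAbelian.Quot
import Cfsg.Agent.Lib.CI.Simple

/-!
# The exceptional pair: the facts at an involution of `A`

Modulo the centraliser of the moved component the centraliser is almost simple with a strongly closed four-group.
-/

set_option autoImplicit false
set_option linter.style.haveILetI false
set_option linter.unusedSectionVars false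

namespace Cfsg.Agent.Goldschmidt

open Subgroup Cfsg.Agent Cfsg.Agent.Fusion
open Cfsg.Agent.Local.SCA (SC comm_of_mem)

universe u

variable {G : Type u} [Group G] [Finite G] {A : Subgroup G}

/-- The component has a Sylow 2-subgroup of the type of that of `U₃(4)`. -/
structure UT (A S : Subgroup G) (a : G) : Prop where
  u4 : UFour.U4 ↥(S ⊓ jt A a : Subgroup G)
  disj : ∀ x ∈ S, x ∈ jt A a → x ∈ dd A a → x = 1
  ez : ∀ x ∈ S, x ∈ jt A a → x * x = 1 → x ∈ A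
  four : Nat.card ↥(A ⊓ jt A a : Subgroup G) = 4
  cover : ∀ x ∈ S, x ∈ nn A a → ∃ u ∈ S ⊓ jt A a, u⁻¹ * x ∈ dd A a

/-- The facts at an involution. -/
structure Str (A S : Subgroup G) (a : G) : Prop where
  le_nn : A ≤ nn A a
  inf_dd : ∀ x ∈ A, x ∈ dd A a ↔ x = 1 ∨ x = a
  inner : ∀ x ∈ S, (∀ u ∈ S, u ∈ nn A a → ∃ e ∈ A, e⁻¹ * (u⁻¹ * (x * u * x⁻¹)) ∈ dd A a) → x ∈ nn A a
  alt : (∀ x ∈ S, x ∈ nn A a → ∃ e ∈ A, e⁻¹ * x ∈ dd A a) ∨ UT A S a

theorem sylow_cent (h : Hyp G A) (hs : SmallCase A) {S : Sylow 2 G} (hAS : A ≤ (S : Subgroup G)) :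
    (S : Subgroup G) ≤ centralizer (A : Set G) := fun s hs' => by
  obtain ⟨k, hk⟩ := S.isPGroup' ⟨s, hs'⟩
  exact hs.odd s (h.sc.le_normalizer hAS hs') k (congrArg Subtype.val hk)

theorem exists_str (h : Hyp G A) (hs : SmallCase A) {S : Sylow 2 G} (hAS : A ≤ (S : Subgroup G)) {a : G}
    (c : At A a) : Str A (S : Subgroup G) a := by
  classical
  haveI : Fact (Nat.Prime 2) := ⟨Nat.prime_two⟩
  obtain ⟨J, o⟩ := exists_only h hs c
  have pd := c.pairData localStatement o.moved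
  have hY := c.localHyp
  have hSC : (S : Subgroup G) ≤ centralizer ({a} : Set G) :=
    (sylow_cent h hs hAS).trans (centralizer_le (Set.singleton_subset_iff.2 c.mem))
  set C := centralizer ({a} : Set G) with hCdef
  haveI hJn : J.Normal := o.normal c
  set CJ := centralizer (J : Set (Cq a)) with hCJ
  haveI : CJ.Normal := normal_iff_cj.2 fun g => by rw [hCJ, cj_centralizer, cj_of_normal]
  set π := QuotientGroup.mk' CJ with hπ
  have hπs : Function.Surjective π := QuotientGroup.mk'_surjective CJ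
  set φ : ↥C →* Cq a ⧸ CJ := π.comp (qq a) with hφ
  have hπ1 : ∀ y, π y = 1 ↔ y ∈ CJ := fun y => QuotientGroup.eq_one_iff y
  set K := J.map π with hK
  haveI : K.Normal := hJn.map π hπs
  have hmK : ∀ y, π y ∈ K ↔ y ∈ J ⊔ CJ := fun y => by
    rw [hK, ← mem_comap, comap_map_eq, hπ, QuotientGroup.ker_mk']
  -- the simple group
  have hqs := o.moved.1.2
  haveI := hqs.2
  let ρ : J →* K := (π.comp J.subtype).codRestrict K fun j => mem_map_of_mem π j.2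
  have hρ : Function.Surjective ρ := fun k => by
    obtain ⟨j, hj, e⟩ := k.2
    exact ⟨⟨j, hj⟩, Subtype.ext e⟩
  have hker : ρ.ker = Subgroup.center J := by
    ext j
    rw [MonoidHom.mem_ker, Subgroup.mem_center_iff]
    refine ⟨fun e g => Subtype.ext (mem_centralizer_iff.1 ((hπ1 _).1 (congrArg Subtype.val e)) g g.2),
      fun e => Subtype.ext ((hπ1 _).2 (mem_centralizer_iff.2 fun g hg => congrArg Subtype.val (e ⟨g, hg⟩)))⟩
  let e : J ⧸ Subgroup.center J ≃* K :=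
    (QuotientGroup.quotientMulEquivOfEq hker.symm).trans (QuotientGroup.quotientKerEquivOfSurjective ρ hρ)
  haveI : IsSimpleGroup K := e.symm.isSimpleGroup
  have hna : ¬ IsMulCommutative K := fun hc => CI.quotient_center_nonab hqs
    ⟨⟨fun x y => e.injective (by rw [map_mul, map_mul]; exact hc.is_comm.comm _ _)⟩⟩
  have hCK : centralizer (K : Set (Cq a ⧸ CJ)) = ⊥ := by
    refine (Subgroup.eq_bot_iff_forall _).2 fun x hx => ?_
    obtain ⟨n, rfl⟩ := hπs x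
    refine (hπ1 _).2 (cent_of_mod_center hqs fun l hl => mem_inf.2 ⟨?_, ?_⟩)
    · exact mul_mem (hJn.conj_mem l hl n) (inv_mem hl)
    · refine (hπ1 _).1 ?_
      rw [map_mul, map_mul, map_mul, map_inv, map_inv, ← mem_centralizer_iff.1 hx _ (mem_map_of_mem π hl)]
      group
  -- the four-group
  set B := (img a A).map π with hB
  set T := pull a A (tPart (img a A) J) with hT
  have hinf : ∀ x (hx : x ∈ A), φ ⟨x, c.le_cent hx⟩ = 1 ↔ x = 1 ∨ x = a := fun x hx => by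
    rw [← o.two x]
    refine ⟨fun e' => mem_pull.2 ⟨hx, c.le_cent hx, c.qq_mem_img hx, (hπ1 _).1 e'⟩, fun hR => ?_⟩
    obtain ⟨_, _, h2⟩ := mem_pull.1 hR
    exact (hπ1 _).2 h2.2
  have hTA : T ≤ A := pull_le _
  have hTJ : ∀ t ∈ T, t ∈ up a J := fun t ht => by
    obtain ⟨-, htC, ht'⟩ := mem_pull.1 ht
    exact mem_up.2 ⟨htC, (pd.le ht').2⟩
  have hmB : ∀ y ∈ B, ∃ t, ∃ ht : t ∈ T, φ ⟨t, c.le_cent (hTA ht)⟩ = y := by
    rintro _ ⟨u, hu, rfl⟩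
    obtain ⟨x, hx, rfl⟩ := c.mem_img hu
    obtain ⟨t, ht, r, hr, rfl⟩ := c.pull_sup (U := tPart (img a A) J) (V := rPart (img a A) J)
      (pd.le.trans inf_le_left) rPart_le (mem_pull.2 ⟨hx, c.le_cent hx, by rw [← pd.split]; exact c.qq_mem_img hx⟩)
    refine ⟨t, ht, ?_⟩
    have h1 := (hinf r (pull_le _ hr)).2 ((o.two r).1 hr)
    calc φ ⟨t, c.le_cent (hTA ht)⟩ = φ ⟨t, c.le_cent (hTA ht)⟩ * φ ⟨r, c.le_cent (pull_le _ hr)⟩ := by
          rw [h1, mul_one]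
      _ = _ := (map_mul φ _ _).symm
  have hmB' : ∀ x (hx : x ∈ A), φ ⟨x, c.le_cent hx⟩ ∈ B := fun x hx => mem_map_of_mem π (c.qq_mem_img hx)
  have hTinj : ∀ t (ht : t ∈ T) t' (ht' : t' ∈ T), φ ⟨t, c.le_cent (hTA ht)⟩ = φ ⟨t', c.le_cent (hTA ht')⟩ →
      t = t' := fun t ht t' ht' e' => by
    have h2 : t⁻¹ * t' ∈ T := mul_mem (inv_mem ht) ht'
    have h1 : φ ⟨t⁻¹ * t', c.le_cent (hTA h2)⟩ = 1 := by
      rw [show (⟨t⁻¹ * t', c.le_cent (hTA h2)⟩ : C) = ⟨t, c.le_cent (hTA ht)⟩⁻¹ * ⟨t', c.le_cent (hTA ht')⟩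
        from rfl, map_mul, map_inv, e', inv_mul_cancel]
    have h3 : qq a ⟨t⁻¹ * t', c.le_cent (hTA h2)⟩ ∈ tPart (img a A) J ⊓ rPart (img a A) J := by
      obtain ⟨_, _, h4⟩ := mem_pull.1 h2
      exact mem_inf.2 ⟨h4, mem_inf.2 ⟨c.qq_mem_img (hTA h2), (hπ1 _).1 h1⟩⟩
    rw [pd.disj, mem_bot] at h3
    exact inv_mul_eq_one.1 (c.qq_inj (hTA h2) (one_mem A) (h3.trans (map_one (qq a)).symm))
  have hB4 : Nat.card B = 4 := by
    refine (Nat.card_congr (Equiv.ofBijective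
      (fun t : T => (⟨φ ⟨t, c.le_cent (hTA t.2)⟩, hmB' t (hTA t.2)⟩ : B))
      ⟨fun t t' e' => Subtype.ext (hTinj t t.2 t' t'.2 (congrArg Subtype.val e')), fun y => ?_⟩)).symm.trans o.four
    obtain ⟨t, ht, e'⟩ := hmB y y.2
    exact ⟨⟨t, ht⟩, Subtype.ext e'⟩
  have hBK : B ≤ K := fun y hy => by
    obtain ⟨u, hu, rfl⟩ := hy
    exact (hmK u).2 (pd.inner hu)
  have hBsq : ∀ y ∈ B, y * y = 1 := by
    rintro _ ⟨u, hu, rfl⟩
    rw [← map_mul, hY.mul_self hu, map_one]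
  -- the Sylow subgroup
  set T₂ : Sylow 2 ↥C := S.subtype hSC with hT₂
  set P : Sylow 2 (Cq a ⧸ CJ) := (T₂.mapSurjective (qq_surjective a)).mapSurjective hπs with hP
  have hPm : ∀ y, y ∈ (P : Subgroup (Cq a ⧸ CJ)) ↔ ∃ s, ∃ hs' : s ∈ (S : Subgroup G), φ ⟨s, hSC hs'⟩ = y := by
    intro y
    rw [hP, Sylow.coe_mapSurjective, Sylow.coe_mapSurjective, hT₂, Sylow.coe_subtype, Subgroup.map_map]
    exact ⟨fun ⟨x, hx, e'⟩ => ⟨x, hx, e'⟩, fun ⟨s, hs', e'⟩ => ⟨⟨s, hSC hs'⟩, hs', e'⟩⟩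
  have hBP : B ≤ (P : Subgroup (Cq a ⧸ CJ)) := fun y hy => by
    obtain ⟨t, ht, rfl⟩ := hmB y hy
    exact (hPm _).2 ⟨t, hAS (hTA ht), rfl⟩
  have hcen : ∀ y ∈ B, ∀ x ∈ (P : Subgroup (Cq a ⧸ CJ)), x * y = y * x := fun y hy x hx => by
    obtain ⟨t, ht, rfl⟩ := hmB y hy
    obtain ⟨s, hs', rfl⟩ := (hPm x).1 hx
    rw [← map_mul, ← map_mul]
    exact congrArg φ (Subtype.ext (mem_centralizer_iff.1 (sylow_cent h hs hAS hs') t (hTA ht)).symm)
  have hsc : SC B := hY.sc.map CJ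
  have hGT : GType K := by
    refine hY.below K hna (B.subgroupOf K) (fun e' => ?_) ?_ (hsc.subgroupOf hBK) ?_
    · have := Nat.card_congr (subgroupOfEquivOfLe hBK).toEquiv
      rw [e', Subgroup.card_bot, hB4] at this
      omega
    · refine ⟨⟨fun x y => Subtype.ext (Subtype.ext ?_)⟩⟩
      obtain ⟨u, hu, e1⟩ := (x.2 : (x.1 : Cq a ⧸ CJ) ∈ B)
      obtain ⟨v, hv, e2⟩ := (y.2 : (y.1 : Cq a ⧸ CJ) ∈ B)
      show (x.1 : Cq a ⧸ CJ) * y.1 = y.1 * x.1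
      refine (congrArg₂ (· * ·) e1.symm e2.symm).trans (Eq.trans ?_ (congrArg₂ (· * ·) e2 e1))
      show π u * π v = π v * π u
      rw [← map_mul, ← map_mul, hY.mem_comm hu hv]
    · exact Nat.lt_succ_of_le ((Subgroup.card_le_card_group K).trans
        (Nat.le_of_dvd Nat.card_pos (Subgroup.card_quotient_dvd_card CJ)))
  have AC := almostConcl K hna hCK hGT P hBK hB4 hBsq (hsc.closed_in hBP) hcen
  -- reading in the group
  have hB_iff : ∀ x (hx : x ∈ C), φ ⟨x, hx⟩ ∈ B → ∃ e ∈ A, e⁻¹ * x ∈ up a CJ := fun x hx hxB => by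
    obtain ⟨t, ht, e'⟩ := hmB _ hxB
    refine ⟨t, hTA ht, mem_up.2 ⟨mul_mem (inv_mem (c.le_cent (hTA ht))) hx, (hπ1 _).1 ?_⟩⟩
    show φ (⟨t, c.le_cent (hTA ht)⟩⁻¹ * ⟨x, hx⟩) = 1
    rw [map_mul, map_inv, e', inv_mul_cancel]
  have hdd : ∀ x (hx : x ∈ C), x ∈ up a CJ ↔ φ ⟨x, hx⟩ = 1 := fun x hx =>
    ⟨fun h1 => by obtain ⟨_, h2⟩ := mem_up.1 h1; exact (hπ1 _).2 h2, fun h1 => mem_up.2 ⟨hx, (hπ1 _).1 h1⟩⟩
  have hnn : ∀ x (hx : x ∈ C), x ∈ up a (J ⊔ CJ) ↔ φ ⟨x, hx⟩ ∈ K := fun x hx =>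
    ⟨fun h1 => by obtain ⟨_, h2⟩ := mem_up.1 h1; exact (hmK _).2 h2, fun h1 => mem_up.2 ⟨hx, (hmK _).1 h1⟩⟩
  refine ⟨?_, ?_, ?_, ?_⟩ <;> simp only [dd, nn, o.layer]
  · exact fun x hx => (hnn x (c.le_cent hx)).2 (hBK (hmB' x hx))
  · exact fun x hx => (hdd x (c.le_cent hx)).trans (hinf x hx)
  · intro x hx hu
    refine (hnn x (hSC hx)).2 (AC.inner _ ((hPm _).2 ⟨x, hx, rfl⟩) fun y hy hyK => ?_)
    obtain ⟨u, hu', rfl⟩ := (hPm y).1 hy
    obtain ⟨e', he', hd⟩ := hu u hu' ((hnn u (hSC hu')).2 hyK)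
    have h1 := (hdd _ (up_le _ _ hd)).1 hd
    have hC' : u⁻¹ * (x * u * x⁻¹) ∈ C :=
      mul_mem (inv_mem (hSC hu')) (mul_mem (mul_mem (hSC hx) (hSC hu')) (inv_mem (hSC hx)))
    have h2 : φ ⟨u⁻¹ * (x * u * x⁻¹), hC'⟩ = φ ⟨e', c.le_cent he'⟩ := by
      refine (inv_mul_eq_one.1 ?_).symm
      rw [← map_inv, ← map_mul]
      exact h1
    rw [← map_inv, ← map_inv, ← map_mul, ← map_mul, ← map_mul]
    exact h2 ▸ hmB' e' he'
  rcases AC.alt with hab | ⟨hu4, hse⟩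
  · exact Or.inl fun x hx hxn => hB_iff x (hSC hx) (hab _ ((hPm _).2 ⟨x, hx, rfl⟩) ((hnn x (hSC hx)).1 hxn))
  right
  -- the Sylow subgroup of the component
  set SJ := (T₂.mapSurjective (qq_surjective a) : Subgroup (Cq a)) with hSJ
  obtain ⟨Q, hQ⟩ := ((sylIn_top (T₂.mapSurjective (qq_surjective a))).inf_normal le_top
    (by rw [normalizer_eq_top])).exists_sylow_subgroupOf (H := J)
  have hPK : IsPGroup 2 (((P : Subgroup (Cq a ⧸ CJ)) ⊓ K).subgroupOf K) :=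
    P.isPGroup'.to_inf_left.comap_of_injective _ K.subtype_injective
  have hQeq : ((Q.mapSurjective hρ : Sylow 2 K) : Subgroup K) =
      ((P : Subgroup (Cq a ⧸ CJ)) ⊓ K).subgroupOf K := by
    refine ((Q.mapSurjective hρ).is_maximal' hPK ?_).symm
    rw [Sylow.coe_mapSurjective, hQ]
    rintro _ ⟨j, hj, rfl⟩
    refine mem_subgroupOf.2 ⟨?_, (ρ j).2⟩
    rw [hP, Sylow.coe_mapSurjective]
    exact mem_map_of_mem π (mem_subgroupOf.1 hj).1
  have hcover : ∀ x ∈ (S : Subgroup G), x ∈ up a (J ⊔ CJ) →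
      ∃ u ∈ (S : Subgroup G) ⊓ up a J, u⁻¹ * x ∈ up a CJ := by
    intro x hx hxn
    have h1 : (⟨φ ⟨x, hSC hx⟩, (hnn x (hSC hx)).1 hxn⟩ : K) ∈ ((Q.mapSurjective hρ : Sylow 2 K) : Subgroup K) := by
      rw [hQeq]
      exact mem_subgroupOf.2 ⟨(hPm _).2 ⟨x, hx, rfl⟩, (hnn x (hSC hx)).1 hxn⟩
    rw [Sylow.coe_mapSurjective, hQ] at h1
    obtain ⟨j, hj, ej⟩ := h1
    obtain ⟨hjS, hjJ⟩ := mem_subgroupOf.1 hj
    rw [Sylow.coe_mapSurjective, hT₂, Sylow.coe_subtype] at hjS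
    obtain ⟨s, hs', es⟩ := hjS
    refine ⟨s, ⟨hs', mem_up.2 ⟨s.2, es.symm ▸ hjJ⟩⟩, (hdd _ (mul_mem (inv_mem s.2) (hSC hx))).2 ?_⟩
    show φ (s⁻¹ * ⟨x, hSC hx⟩) = 1
    rw [map_mul, map_inv, inv_mul_eq_one]
    have h2 : π (j : Cq a) = φ ⟨x, hSC hx⟩ := congrArg Subtype.val ej
    rw [← h2, ← es]
    rfl
  -- the component has no centre
  have eP : ((P : Subgroup (Cq a ⧸ CJ)) ⊓ K : Subgroup _) ≃* ((Q.mapSurjective hρ : Sylow 2 K) : Subgroup K) :=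
    (subgroupOfEquivOfLe inf_le_right).symm.trans (MulEquiv.subgroupCongr hQeq.symm)
  have hZ : Subgroup.center J = ⊥ := by
    by_contra hZ
    obtain ⟨H, hH⟩ := hse
    let P' : Sylow 2 (J ⧸ Subgroup.center J) := Sylow.mapSurjective (f := e.symm.toMonoidHom) e.symm.surjective
      (Q.mapSurjective hρ)
    have eP' : ((Q.mapSurjective hρ : Sylow 2 K) : Subgroup K) ≃* (P' : Subgroup (J ⧸ Subgroup.center J)) :=
      ((_ : Subgroup K).equivMapOfInjective e.symm.toMonoidHom e.symm.injective).trans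
        (MulEquiv.subgroupCongr (Sylow.coe_mapSurjective (f := e.symm.toMonoidHom) e.symm.surjective _).symm)
    have hu := hu4.of_equiv (eP.trans eP')
    rcases CI.cover_cases (Z := Subgroup.center J) (by
      haveI := hqs.1; rw [← _root_.commutator_def]; exact Group.IsPerfect.commutator_eq_top) le_rfl
      (CI.comp_center_two o.moved.1 hY.core) hZ (CI.quotient_center_nonab hqs) (CI.se_map e.symm hH) P' with
      ⟨h4, -⟩ | ⟨-, -, h8, -⟩
    · rw [hu.card] at h4; omega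
    · rw [hu.card_center] at h8; omega
  have hdisj : ∀ x ∈ (S : Subgroup G), x ∈ up a J → x ∈ up a CJ → x = 1 := by
    intro x hx hxJ hxC
    obtain ⟨hxc, hj⟩ := mem_up.1 hxJ
    obtain ⟨_, hcj⟩ := mem_up.1 hxC
    have h1 : (⟨_, hj⟩ : J) ∈ Subgroup.center J :=
      Subgroup.mem_center_iff.2 fun g => Subtype.ext (mem_centralizer_iff.1 hcj g g.2)
    rw [hZ, mem_bot] at h1
    have h2 : (⟨x, hxc⟩ : C) ∈ (T₂ : Subgroup C) ⊓ Cfsg.oddCore ↥C :=
      mem_inf.2 ⟨by rw [hT₂, Sylow.coe_subtype]; exact hx, (qq_eq_one _).1 (congrArg Subtype.val h1)⟩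
    rw [inf_comm, coprime_inf_pGroup (card_pPrimeCore_coprime 2 _) T₂.isPGroup', mem_bot] at h2
    exact congrArg Subtype.val h2
  -- the isomorphism with the Sylow subgroup of the simple group
  let τ : ↥((S : Subgroup G) ⊓ up a J) →* ↥((P : Subgroup (Cq a ⧸ CJ)) ⊓ K) :=
    (φ.comp (Subgroup.inclusion (inf_le_left.trans hSC))).codRestrict _ fun x =>
      mem_inf.2 ⟨(hPm _).2 ⟨x, x.2.1, rfl⟩, (hnn _ (hSC x.2.1)).1 (up_mono le_sup_left x.2.2)⟩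
  have hτ : Function.Bijective τ := by
    refine ⟨(injective_iff_map_eq_one τ).2 fun x hx => Subtype.ext
      (hdisj _ x.2.1 x.2.2 ((hdd _ (hSC x.2.1)).2 (congrArg Subtype.val hx))), fun y => ?_⟩
    obtain ⟨s, hs', e'⟩ := (hPm y).1 y.2.1
    obtain ⟨u, hu, hd⟩ := hcover s hs' ((hnn s (hSC hs')).2 (e' ▸ y.2.2))
    refine ⟨⟨u, hu⟩, Subtype.ext ?_⟩
    have h1 := (hdd _ (mul_mem (inv_mem (hSC hu.1)) (hSC hs'))).1 hd
    show φ ⟨u, hSC hu.1⟩ = y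
    rw [← e']
    refine inv_mul_eq_one.1 ?_
    rw [← map_inv, ← map_mul]
    exact h1
  have hez : ∀ x ∈ (S : Subgroup G), x ∈ up a J → x * x = 1 → x ∈ A := by
    intro x hx hxJ h2
    obtain ⟨t, ht, e'⟩ := hmB _ (AC.invol (φ ⟨x, hSC hx⟩) ((hPm _).2 ⟨x, hx, rfl⟩)
      ((hnn x (hSC hx)).1 (up_mono le_sup_left hxJ))
      (by rw [← map_mul, show (⟨x, hSC hx⟩ : C) * ⟨x, hSC hx⟩ = 1 from Subtype.ext h2, map_one]))
    have h3 : x⁻¹ * t = 1 := hdisj _ (mul_mem (inv_mem hx) (hAS (hTA ht))) (mul_mem (inv_mem hxJ) (hTJ t ht)) (by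
      refine (hdd _ (mul_mem (inv_mem (hSC hx)) (c.le_cent (hTA ht)))).2 ?_
      show φ (⟨x, hSC hx⟩⁻¹ * ⟨t, c.le_cent (hTA ht)⟩) = 1
      rw [map_mul, map_inv, e', inv_mul_cancel])
    rw [inv_mul_eq_one.1 h3]
    exact hTA ht
  refine ⟨?_, ?_, ?_, ?_, ?_⟩
  · rw [show jt A a = up a J from congrArg (up a) o.layer]
    exact hu4.of_equiv (MulEquiv.ofBijective τ hτ).symm
  all_goals simp only [jt, dd, nn, o.layer]
  · exact hdisj
  · exact hez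
  · have hle : T ≤ A ⊓ up a J := fun t ht => ⟨hTA ht, hTJ t ht⟩
    refine le_antisymm ?_ (o.four ▸ Nat.card_le_card_of_injective _ (Subgroup.inclusion_injective hle))
    obtain ⟨m, hm⟩ := card_dvd_of_le (inf_le_left : A ⊓ up a J ≤ A)
    rw [hs.eight] at hm
    rcases Nat.lt_or_ge m 2 with h1 | h2
    · exfalso
      interval_cases m
      · omega
      have hAJ : A ≤ up a J := (eq_of_le_of_card_ge inf_le_left
        (by rw [hs.eight]; omega) : A ⊓ up a J = A).symm.le.trans inf_le_right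
      exact c.ne (hdisj a (hAS c.mem) (hAJ c.mem) ((hdd a (c.le_cent c.mem)).2 ((hinf a c.mem).2 (Or.inr rfl))))
    · nlinarith
  · exact hcover

end Cfsg.Agent.Goldschmidt
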