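import Cfsg.Agent.Lib.Goldschmidt.Local.TypeFacts
import Cfsg.Agent.Lib.UFour.Data
import Cfsg.Agent.Lib.CI.Ident

/-!
# Simple groups of the induction whose Sylow 2-subgroups have three involutions

The Sylow 2-subgroup is a four-group or has the type of that of `U₃(4)`.
-/

set_option autoImplicit false
set_option linter.style.haveILetI false
set_option linter.unusedSectionVars false

namespace Cfsg.Agent.Goldschmidt

open Subgroup Cfsg.Agent
open Cfsg.Agent.Solv.AbelianTwo (Ab2)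

universe u v

/-- The central elements of square one go into the involutions. -/
theorem center_card_le {P : Type u} {Q : Type v} [Group P] [Group Q] [Finite P] (φ : P ≃* Q) (W : Set P)
    (hinv : ∀ x : P, x * x = 1 → x ∈ W) (hsq : ∀ z ∈ Subgroup.center Q, z * z = 1) :
    Nat.card (Subgroup.center Q) ≤ Nat.card W := by
  haveI : Finite W := Set.toFinite W
  exact Nat.card_le_card_of_injective
    (fun z : Subgroup.center Q => (⟨φ.symm z, hinv _ (by rw [← map_mul, hsq z z.2, map_one])⟩ : W))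
    fun z z' e => Subtype.ext (φ.symm.injective (congrArg Subtype.val e))

variable {K : Type u} [Group K] [Finite K]

/-- **The two types.** -/
theorem four_or_u4 [IsSimpleGroup K] (hna : ¬ IsMulCommutative K) (hT : GType K) (P : Sylow 2 K) {W : Subgroup K}
    (hW : Nat.card W = 4) (hWP : W ≤ (P : Subgroup K)) (hinv : ∀ x ∈ (P : Subgroup K), x * x = 1 → x ∈ W) :
    W = (P : Subgroup K) ∨ (UFour.U4 (P : Subgroup K) ∧ HasSE K) := by
  classical
  by_cases hab : Ab2 K
  · refine Or.inl (le_antisymm hWP fun x hx => hinv x hx ?_)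
    exact (Walter.cyc_of_ktype hab
      (Walter.simpleStatement_of SEB.sol_all (Walter.R3.rankThreeStatement_of SEB.sol_all) K hna hab) P).sq x hx
  obtain ⟨H, hH⟩ := hT.resolve_left hab
  refine Or.inr ⟨?_, H, hH⟩
  have hcard : Nat.card ((W.subgroupOf (P : Subgroup K) : Set (P : Subgroup K))) = 4 :=
    (Nat.card_congr (subgroupOfEquivOfLe hWP).toEquiv).trans hW
  have key : ∀ {Q : Type} [Group Q], ((P : Subgroup K) ≃* Q) → (∀ z ∈ Subgroup.center Q, z * z = 1) →
      Nat.card (Subgroup.center Q) ≤ 4 := fun φ hsq =>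
    hcard ▸ center_card_le φ _ (fun x hx => hinv x x.2 (congrArg Subtype.val hx)) hsq
  rcases CI.ident hna hH with ⟨F, iF, iFF, n, hn, hF, ⟨e⟩⟩ | ⟨F, iF, iFF, m, hm, hF, ⟨e⟩⟩ |
    ⟨F, iF, iFF, n, hn, hF, ⟨e⟩⟩
  · exfalso
    haveI : Finite (Matrix.ProjectiveSpecialLinearGroup (Fin 2) F) := Finite.of_equiv _ e.toEquiv
    refine hab fun S => ?_
    obtain ⟨Q, ⟨φ⟩⟩ := CI.exists_sylow_equiv e S
    haveI := (CI.psl_sylow hn hF Q).1
    exact ⟨⟨fun a b => φ.injective (by rw [map_mul, map_mul, IsMulCommutative.is_comm.comm])⟩⟩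
  · exfalso
    obtain ⟨f⟩ := Cfsg.Agent.Lie.Suzuki.lie_sz_equiv (F := F) hF hm
    haveI : Finite (Cfsg.Sz F m) := Finite.of_equiv K (e.trans f.symm).toEquiv
    obtain ⟨Q, ⟨φ⟩⟩ := CI.exists_sylow_equiv (e.trans f.symm) P
    have h := key φ (CI.sz_center_sq hm hF Q)
    rw [(S0330.result hm hF Q).2.2.2] at h
    have h8 : 8 ≤ 2 ^ (2 * m + 1) :=
      (show (8 : ℕ) = 2 ^ 3 by norm_num) ▸ Nat.pow_le_pow_right two_pos (by omega)
    omega
  · haveI : Finite (Cfsg.PSU 3 F (2 ^ n)) := Finite.of_equiv _ e.toEquiv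
    haveI : Fact (Nat.Prime 2) := ⟨Nat.prime_two⟩
    haveI : CharP F 2 := charP_of_card_eq_prime_pow (p := 2) (f := n * 2) (by rw [hF, pow_mul])
    obtain ⟨σ, hσ⟩ := Lie.UnitarySylow.sigma_props (by omega : 1 ≤ n) hF
    letI := Lie.UnitarySylow.uGroup hσ
    obtain ⟨Q, ⟨φ⟩⟩ := CI.exists_sylow_equiv e P
    obtain ⟨ψ⟩ := Lie.UnitarySylow.sylow_PSU hσ (by omega : 1 ≤ n) rfl Q
    have h := key (φ.trans ψ.symm) fun z hz =>
      (Lie.UnitarySylow.sq_eq_one_iff hσ z).2 ((Lie.UnitarySylow.mem_center_iff hσ z).1 hz)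
    have hc : Nat.card (Subgroup.center (Lie.UnitarySylow.U σ)) = 2 ^ n := by
      rw [← (Lie.UnitarySylow.card_fix hσ).1]
      exact Nat.card_congr ⟨fun g => ⟨g.1.z, Lie.UnitarySylow.z_fixed ((Lie.UnitarySylow.mem_center_iff hσ _).1 g.2)⟩,
        fun z => ⟨Lie.UnitarySylow.central z.1 z.2, (Lie.UnitarySylow.mem_center_iff hσ _).2 rfl⟩,
        fun g => Subtype.ext (Lie.UnitarySylow.U.ext ((Lie.UnitarySylow.mem_center_iff hσ _).1 g.2).symm rfl),
        fun z => rfl⟩
    rw [hc, show (4 : ℕ) = 2 ^ 2 by norm_num] at h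
    obtain rfl : n = 2 := le_antisymm ((Nat.pow_le_pow_iff_right one_lt_two).1 h) hn
    have h16 : Fintype.card F = 16 := by rw [hF]; norm_num
    exact (UFour.u4_psu h16 Q).of_equiv φ.symm

end Cfsg.Agent.Goldschmidt
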